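import Groth.Agent.S16375
import Groth.Agent.BCFlat16.FMTen
import Groth.Agent.BCFlat16.FMObj

/-!
# Exchange of twists and transforms along a symmetry
-/

set_option autoImplicit false
set_option backward.isDefEq.respectTransparency false
set_option backward.defeqAttrib.useBackward true
set_option linter.style.haveILetI false
set_option synthInstance.maxHeartbeats 100000

universe u

open CategoryTheory CategoryTheory.Limits AlgebraicGeometry HomologicalComplex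
open Groth.Agent.ModStalk Groth.Agent.DCat Groth.Agent.BCFlat16

attribute [local instance] HasDerivedCategory.standard

namespace Groth.Agent.GVPres16

variable {X Y Z : Scheme.{u}}

/-- Pullback along an isomorphism followed by direct image is the identity. -/
theorem nonempty_pull_push (σ : X ⟶ Y) [IsIso σ] [DCoh.HasLpull σ] [DCoh.HasRpush σ] :
    Nonempty (DCoh.Lpull σ ⋙ DCoh.Rpush σ ≅ 𝟭 (DCoh.D Y)) := by
  haveI := hasLpull (inv σ)
  haveI := hasLpull (inv σ ≫ σ)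
  haveI := hasLpull (σ ≫ inv σ)
  obtain ⟨adj⟩ := DCat.nonempty_pullPushAdj σ
  obtain ⟨c₁⟩ := DCat.nonempty_LpullComp (inv σ) σ
  obtain ⟨c₂⟩ := DCat.nonempty_LpullComp σ (inv σ)
  have hid : ∀ {W : Scheme.{u}} (f : W ⟶ W) [DCoh.HasLpull f], f = 𝟙 W →
      Nonempty (DCoh.Lpull f ≅ 𝟭 (DCoh.D W)) := by
    intro W f _ hf; subst hf; exact nonempty_Lpull_id
  obtain ⟨i₁⟩ := hid (inv σ ≫ σ) (IsIso.inv_hom_id σ)
  obtain ⟨i₂⟩ := hid (σ ≫ inv σ) (IsIso.hom_inv_id σ)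
  let eq : DCoh.D Y ≌ DCoh.D X := CategoryTheory.Equivalence.mk (DCoh.Lpull σ) (DCoh.Lpull (inv σ))
    (c₁ ≪≫ i₁).symm (c₂ ≪≫ i₂)
  let r : DCoh.Rpush σ ≅ DCoh.Lpull (inv σ) := adj.rightAdjointUniq eq.toAdjunction
  exact ⟨Functor.isoWhiskerLeft _ r ≪≫ c₁ ≪≫ i₁⟩

/-- The transform by the transported kernel along an isomorphism of products. -/
theorem nonempty_transport {W : Scheme.{u}} (σ : W ⟶ Z) [IsIso σ] (p : Z ⟶ X) (q : Z ⟶ Y) (p' : W ⟶ X) (q' : W ⟶ Y)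
    (hp : σ ≫ p = p') (hq : σ ≫ q = q') [DCoh.HasLpull q'] [DCoh.HasLpull q] [DCoh.HasRpush p'] [DCoh.HasRpush p]
    {P : Z.Modules} (hP : PicF.IsInvertible P) (N : DCoh.D Y) :
    Nonempty ((DCoh.Rpush p').obj ((tens ((Scheme.Modules.pullback σ).obj P)).obj ((DCoh.Lpull q').obj N)) ≅
      (DCoh.Rpush p).obj ((tens P).obj ((DCoh.Lpull q).obj N))) := by
  subst hp hq
  haveI := hasLpull σ
  haveI := hasRpush σ
  obtain ⟨c⟩ := DCat.nonempty_LpullComp σ q
  obtain ⟨d⟩ := DCat.nonempty_RpushComp σ p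
  obtain ⟨v⟩ := nonempty_Lpull_tens_inv σ hP
  obtain ⟨e⟩ := nonempty_pull_push σ
  exact ⟨(DCoh.Rpush (σ ≫ p)).mapIso ((tens _).mapIso (c.app N).symm ≪≫ (v.app _).symm) ≪≫ (d.app _).symm ≪≫
    (DCoh.Rpush p).mapIso (e.app _)⟩

/-- The two factors of a derived tensor product can be exchanged. -/
theorem nonempty_swap2 (A B : CochainComplex X.Modules ℤ) [DCoh.HasLTensorCx A] [DCoh.HasLTensorCx B] :
    Nonempty ((DCoh.LTensorCx A).obj (DerivedCategory.Q.obj B) ≅ (DCoh.LTensorCx B).obj (DerivedCategory.Q.obj A)) := by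
  obtain ⟨A', hA', ⟨eA⟩⟩ := PullPerf.exists_kflat_rep (DerivedCategory.Q.obj A)
  obtain ⟨B', hB', ⟨eB⟩⟩ := PullPerf.exists_kflat_rep (DerivedCategory.Q.obj B)
  haveI := LTensorSheaf.hasLTensorCx A'
  haveI := LTensorSheaf.hasLTensorCx B'
  obtain ⟨cA⟩ := TensorCongr.nonempty_congr (E := A') (E' := A) eA
  obtain ⟨cB⟩ := TensorCongr.nonempty_congr (E := B') (E' := B) eB
  exact ⟨(cA.app _).symm ≪≫ (DCoh.LTensorCx A').mapIso eB.symm ≪≫ LTensorSheaf.ltensorCxIso' hA' B' ≪≫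
    DerivedCategory.Q.mapIso (Dual22Lib.ShSymm.symm B' A') ≪≫ (LTensorSheaf.ltensorCxIso' hB' A').symm ≪≫
    (DCoh.LTensorCx B').mapIso eA ≪≫ cB.app _⟩

/-- A module in degree zero, twisted. -/
theorem nonempty_tens_inD (M : X.Modules) {P : X.Modules} (hP : PicF.IsInvertible P) :
    Nonempty ((tens P).obj (DCoh.inD X M) ≅ DCoh.inD X (CohB1.tensorMod M P)) := by
  obtain ⟨a⟩ := nonempty_inD_tens M
  obtain ⟨b⟩ := nonempty_inD_tens (CohB1.tensorMod M P)
  obtain ⟨c⟩ := nonempty_tens_tens M hP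
  exact ⟨(tens P).mapIso a.symm ≪≫ c.app (ox X) ≪≫ b⟩

end Groth.Agent.GVPres16
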