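import Groth.Agent.GVPres16.Transform
import Groth.Agent.S14125
import Groth.Agent.S16377
import Groth.Agent.VarietyLib.CurveDegree
import Groth.Agent.CycLib28.MultLocal
import Groth.Agent.AbDualLib.DegreeDual
import Groth.Agent.AbCubeLib.DenseTorsion

/-!
# Vanishing for the twist of a GV object by an IT0 module
-/

set_option autoImplicit false
set_option backward.isDefEq.respectTransparency false
set_option backward.defeqAttrib.useBackward true
set_option linter.style.haveILetI false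
set_option linter.unusedSectionVars false
set_option synthInstance.maxHeartbeats 100000
set_option maxHeartbeats 1000000

universe u

open CategoryTheory CategoryTheory.Limits MonoidalCategory CartesianMonoidalCategory MonObj GrpObj AlgebraicGeometry
open Groth.Agent Groth.Agent.DCat Groth.Agent.BCFlat16 TopologicalSpace

attribute [local instance] HasDerivedCategory.standard
attribute [-instance] Int.instConditionallyCompleteLinearOrder

namespace Groth.Agent.GVPres16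

/-- Vanishing of `H^i(Y, T ⊗ N)` above `g` when `supp H^j T` has dimension at most `g - j`. -/
theorem van_tens_of_supp {Y : Scheme.{u}} [IsNoetherian Y] (g : ℕ) (hg : topologicalKrullDim Y ≤ (g : WithBot ℕ∞))
    (T : DCoh.D Y) (a c : ℤ) [T.IsGE a] [T.IsLE c]
    (hdim : ∀ (j : ℕ) (y : Y), y ∈ CohB1.support (DCoh.HD T (j : ℤ)) →
      j ≤ g ∧ topologicalKrullDim (closure ({y} : Set Y)) ≤ ((g - j : ℕ) : WithBot ℕ∞))
    {N : Y.Modules} (hN : FlatMod.IsFinLocFree N)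
    [DCoh.HasLTensorCx ((HomologicalComplex.single Y.Modules (ComplexShape.up ℤ) 0).obj N)]
    (i : ℤ) (hi : (g : ℤ) < i) :
    FMK16.Van ((DCoh.LTensorCx ((HomologicalComplex.single Y.Modules (ComplexShape.up ℤ) 0).obj N)).obj T) i := by
  let T' := (DCoh.LTensorCx ((HomologicalComplex.single Y.Modules (ComplexShape.up ℤ) 0).obj N)).obj T
  have hT : ∀ q : ℤ, Nonempty (DCoh.HD T' q ≅ CohB1.tensorMod N (DCoh.HD T q)) := fun q => by
    obtain ⟨e⟩ := FMK16.nonempty_HD_tens T hN q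
    exact ⟨e ≪≫ (Coherent.CohBC.tensorRightBiIso N).app _⟩
  have hz : ∀ q : ℤ, IsZero (DCoh.HD T q) → IsZero (DCoh.HD T' q) := fun q hq => by
    obtain ⟨e⟩ := hT q
    exact (((DCoh.tensorBi (X := Y)).obj N).map_isZero hq).of_iso e
  obtain ⟨n, hn⟩ : ∃ n : ℕ, c ≤ a + n - 1 := ⟨(c + 1 - a).toNat, by omega⟩
  refine FMK16.van_of_HD n T' a i
    ((DerivedCategory.isGE_iff T' a).2 fun q hq => hz q (DerivedCategory.isZero_of_isGE T a q hq))
    ((DerivedCategory.isLE_iff T' _).2 fun q hq => hz q (DerivedCategory.isZero_of_isLE T c q (by omega)))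
    fun q hq => ?_
  obtain ⟨e⟩ := hT q
  haveI : Subsingleton (Coh.HH Y (CohB1.tensorMod N (DCoh.HD T q)) (i - q).toNat) := by
    rcases lt_or_ge q 0 with hq0 | hq0
    · exact GVan16.subsingleton_HH_of_support _ g
        (fun y _ => le_trans (GVan16.dim_mono (T := Set.univ) (Set.subset_univ _))
          (((IsHomeomorph.topologicalKrullDim_eq _ (Homeomorph.Set.univ Y).isHomeomorph)).le.trans hg)) _ (by omega)
    · obtain ⟨m, rfl⟩ := Int.eq_ofNat_of_zero_le hq0
      by_cases hne : (CohB1.support (DCoh.HD T (m : ℤ))).Nonempty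
      · obtain ⟨y₀, hy₀⟩ := hne
        have hmg := (hdim m y₀ hy₀).1
        exact GVan16.subsingleton_HH_of_support _ (g - m)
          (fun y hy => (hdim m y (S16377.support_tensorMod _ _ hy)).2) _ (by omega)
      · exact FMK16.subsingleton_HH_of_isZero (((DCoh.tensorBi (X := Y)).obj N).map_isZero
          (ModStalk.isZero_of_stalks fun y => SuppOpen.isZero_stalkFunctor _ y
            (h := not_not.1 fun h => hne ⟨y, h⟩))) _
  exact FMK16.subsingleton_HH_of_iso e _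

/-- Shifting and vanishing. -/
theorem van_of_shift {Y : Scheme.{u}} (T : DCoh.D Y) (n i : ℤ) (h : FMK16.Van (T⟦n⟧) i) : FMK16.Van T (i + n) := by
  have h1 := (DCat.Amplitude.from_shift_iff (Iso.refl (T⟦n⟧)) (Coh.structureModule Y) i).2 h
  refine (DCat.Amplitude.from_shift_iff (Iso.refl T) (Coh.structureModule Y) (i + n)).1 fun φ => ?_
  let e : (T⟦n⟧)⟦i⟧ ≅ T⟦i + n⟧ := ((shiftFunctorAdd' (DCoh.D Y) n i (i + n) (by omega)).app T).symm
  rw [← cancel_mono e.inv, zero_comp]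
  exact h1 _

variable {k : Type u} [Field k] [IsAlgClosed k] {A At : Over (Spec (CommRingCat.of k))}
  [GrpObj A] [IsProper A.hom] [Smooth A.hom] [GeometricallyConnected A.hom]
  [GrpObj At] [IsProper At.hom] [Smooth At.hom] [GeometricallyConnected At.hom]
  {φ : ∀ T : Over (Spec (CommRingCat.of k)), PicF.Cl (PicF.XT A.hom T) → (T ⟶ At)}
  (hφ : AbDual.IsDualAV Scheme.fppfPrecoverage A At φ) {P : (pullback A.hom At.hom).Modules}
  (hP : PicF.IsInvertible P) (hPξ : AbDual.IsPoincareCl A At φ (PicF.cl P))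
  [DCoh.HasLpull (pullback.fst A.hom At.hom)] [DCoh.HasLTensorMod P] [DCoh.HasRpush (pullback.snd A.hom At.hom)]

include hφ hP hPξ in
/-- The transform of `(-1)^* (H ⊗ P_α)` is a vector bundle in degree zero. -/
theorem exists_transform_bundle [DCoh.HasLpull ((𝟙 A)⁻¹).left] {H : A.left.Modules} (hH : Coh.IsCoh H)
    (hH0 : ∀ (x : 𝟙_ (Over (Spec (CommRingCat.of k))) ⟶ At) (i : ℕ), 1 ≤ i →
      Subsingleton (Coh.HH A.left (CohB1.tensorMod H (Px P x)) i))
    (α : 𝟙_ (Over (Spec (CommRingCat.of k))) ⟶ At) :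
    ∃ N : At.left.Modules, FlatMod.IsFinLocFree N ∧ Nonempty (Phi P ((DCoh.Lpull ((𝟙 A)⁻¹).left).obj
      ((tens (Px P α)).obj (DCoh.inD A.left H))) ≅ DCoh.inD At.left N) := by
  let jv : A.left ⟶ A.left := ((𝟙 A)⁻¹).left
  haveI : IsLocallyNoetherian A.left := LocallyOfFiniteType.isLocallyNoetherian A.hom
  haveI : IsLocallyNoetherian At.left := LocallyOfFiniteType.isLocallyNoetherian At.hom
  haveI : ∀ y : At.left, DCoh.HasLpull (At.left.fromSpecResidueField y) := fun y => DCat.hasLpull _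
  haveI : DCoh.HasRΓ A.left := DCat.hasRightDerivedFunctor_of_enoughKInj (DCat.modules_enoughKInj _) _
  haveI := DCat.hasRpush jv
  have hinv : jv ≫ jv = 𝟙 A.left := by
    have h : ((𝟙 A)⁻¹ : A ⟶ A) ≫ (𝟙 A)⁻¹ = 𝟙 A := by
      rw [GrpObj.comp_inv, Category.comp_id, _root_.inv_inv]
    exact congrArg CommaMorphism.left h
  haveI : IsIso jv := ⟨⟨jv, hinv, hinv⟩⟩
  obtain ⟨a⟩ := nonempty_tens_inD H (isInvertible_Px hP α)
  have hreg : ∀ x : A.left, IsRegularLocalRing (A.left.presheaf.stalk x) := fun x =>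
    CycLib28.isRegularLocalRing_stalk A.hom x
  have hcoh : Coh.IsCoh (CohB1.tensorMod H (Px P α)) :=
    VarietyLib.isCoh_tensor' hH (PicLib.isCoh_of_isInvertible (isInvertible_Px hP α))
  have hperf : DCoh.IsPerfect ((DCoh.Lpull jv).obj ((tens (Px P α)).obj (DCoh.inD A.left H))) :=
    PullPerf.isPerfect_Lpull jv _ (PCTriangle.perfect_iso a.symm
      (KZeroLib.isPerfect_inD_of_isCoh hreg _ hcoh))
  have hK := isPerfect_Phi hP hperf
  have hclosed : ∀ (y : At.left), IsClosed ({y} : Set At.left) → ∀ p : ℤ, p ≠ 0 →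
      PerfD.betti (Phi P ((DCoh.Lpull jv).obj ((tens (Px P α)).obj (DCoh.inD A.left H)))) y p = 0 := by
    intro y hy p hp
    obtain ⟨x, hx⟩ := exists_point (k := k) hy
    rw [← hx (IsLocalRing.closedPoint k), ← isZero_twist_iff_betti hφ hP hPξ x
      (Dual22Lib.PerfLift.isQCohD_perfect hperf) hK _ p]
    have hQ : PicF.IsInvertible ((Scheme.Modules.pullback jv).obj (Px P x)) :=
      PicLoc.isInvertible_pullback _ (isInvertible_Px hP x)
    obtain ⟨v⟩ := nonempty_Lpull_tens_inv jv hQ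
    obtain ⟨w⟩ := nonempty_tens_of_eq (PicLoc.isInvertible_pullback jv hQ) (isInvertible_Px hP x) (by
      rw [← PicLib.PicM.pull_of jv hQ, ← PicLib.PicM.pull_of jv (isInvertible_Px hP x), PicLib.PicM.pull_pull, hinv,
        PicLib.PicM.pull_id])
    obtain ⟨b⟩ := nonempty_tens_tens H (isInvertible_Px hP α)
    obtain ⟨c⟩ := nonempty_tens_tens (Px P α) hQ
    obtain ⟨d⟩ := nonempty_tens_of_eq (AmpleLib.isInvertible_tensorMod (isInvertible_Px hP α) hQ)
      (isInvertible_Px hP (α * x⁻¹)) (by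
      rw [← PicLib.PicM.of_mul (isInvertible_Px hP α) hQ, ← PicLib.PicM.pull_of jv (isInvertible_Px hP x)]
      exact of_Px_mul_inv hφ hP hPξ α x)
    obtain ⟨f⟩ := nonempty_tens_inD H (isInvertible_Px hP (α * x⁻¹))
    obtain ⟨pp⟩ := nonempty_pull_push jv
    let T := (tens (Px P α)).obj (DCoh.inD A.left H)
    let i1 : (tens (Px P x)).obj ((DCoh.Lpull jv).obj T) ≅ (DCoh.Lpull jv).obj ((tens _).obj T) :=
      (w.app _).symm ≪≫ (v.app T).symm
    haveI : Flat jv := inferInstance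
    obtain ⟨g⟩ := FMK16.nonempty_RGamma_Rpush jv ((DCoh.Lpull jv).obj ((tens ((Scheme.Modules.pullback jv).obj (Px P x))).obj T))
    let i2 : (DCoh.RΓ A.left).obj ((tens (Px P x)).obj ((DCoh.Lpull jv).obj T)) ≅
        (DCoh.RΓ A.left).obj (DCoh.inD A.left (CohB1.tensorMod H (Px P (α * x⁻¹)))) :=
      (DCoh.RΓ A.left).mapIso i1 ≪≫ g.symm ≪≫
        (DCoh.RΓ A.left).mapIso (pp.app _ ≪≫ (c ≪≫ d).app (DCoh.inD A.left H) ≪≫ f)
    rw [((DerivedCategory.homologyFunctor AddCommGrpCat.{u} p).mapIso i2).isZero_iff, FMK16.isZero_homology_RΓ_iff]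
    exact FMK16.van_single _ 0 p fun hp0 => hH0 _ _ (by omega)
  obtain ⟨N, hN, e⟩ := exists_inD_of_betti _ hK fun y p hp => by
    let E := Phi P ((DCoh.Lpull jv).obj ((tens (Px P α)).obj (DCoh.inD A.left H)))
    let U : Set At.left := ⋃ r : ℕ, DQCoh.bundleLocus E 0 r
    have hU : IsOpen U := isOpen_iUnion fun r => DQCoh.isOpen_bundleLocus E hK 0 r
    haveI : JacobsonSpace At.left := LocallyOfFiniteType.jacobsonSpace At.hom
    have hall : ∀ y : At.left, y ∈ U := fun y => by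
      by_contra hy
      obtain ⟨z, hz, hzc⟩ := nonempty_inter_closedPoints (Z := Uᶜ) ⟨y, hy⟩ hU.isClosed_compl.isLocallyClosed
      exact hz (Set.mem_iUnion.2 ⟨PerfD.betti E z 0, fun p hp => hclosed z hzc p hp, rfl⟩)
    obtain ⟨r, hr⟩ := Set.mem_iUnion.1 (hall y)
    exact hr.1 p hp
  exact ⟨N, hN, e⟩

include hφ hP hPξ in
/-- **GV objects tensor IT0 modules are IT0.** -/
theorem main {H : A.left.Modules} (hH : Coh.IsCoh H)
    (hH0 : ∀ (x : 𝟙_ (Over (Spec (CommRingCat.of k))) ⟶ At) (i : ℕ), 1 ≤ i →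
      Subsingleton (Coh.HH A.left (CohB1.tensorMod H (Px P x)) i))
    {F : DCoh.D A.left} (hF : DCoh.IsPerfect F) (g : ℕ) (hg : topologicalKrullDim A.left = g)
    (hdim : ∀ (j : ℕ) (y : At.left), y ∈ CohB1.support (DCoh.HD (Phi P F) (j : ℤ)) →
      j ≤ g ∧ topologicalKrullDim (closure ({y} : Set At.left)) ≤ ((g - j : ℕ) : WithBot ℕ∞))
    [DCoh.HasLTensorMod H] (α : 𝟙_ (Over (Spec (CommRingCat.of k))) ⟶ At) [DCoh.HasLTensorMod (Px P α)]
    [DCoh.HasRΓ A.left] (i : ℕ) (hi : 1 ≤ i) :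
    IsZero ((DerivedCategory.homologyFunctor AddCommGrpCat.{u} (i : ℤ)).obj ((DCoh.RΓ A.left).obj
      ((DCoh.LTensorMod (Px P α)).obj ((DCoh.LTensorMod H).obj F)))) := by
  let jv : A.left ⟶ A.left := ((𝟙 A)⁻¹).left
  haveI := DCat.hasLpull jv
  obtain ⟨N, hN, ⟨eN⟩⟩ := exists_transform_bundle hφ hP hPξ hH hH0 α
  haveI : IsLocallyNoetherian A.left := LocallyOfFiniteType.isLocallyNoetherian A.hom
  haveI : IsLocallyNoetherian At.left := LocallyOfFiniteType.isLocallyNoetherian At.hom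
  haveI : CompactSpace At.left := QuasiCompact.compactSpace_of_compactSpace At.hom
  haveI : IsNoetherian At.left := {}
  haveI := DCat.hasLpull (pullback.fst At.hom A.hom)
  haveI := DCat.hasLpull (pullback.snd A.hom At.hom)
  haveI := DCat.hasRpush (pullback.snd At.hom A.hom)
  haveI := DCat.hasRpush (pullback.fst A.hom At.hom)
  haveI : DCoh.HasLTensorMod ((Scheme.Modules.pullback (pullbackSymmetry At.hom A.hom).hom).obj P) := DCat.hasLTensorMod _
  haveI : DCoh.HasRΓ At.left := DCat.hasRightDerivedFunctor_of_enoughKInj (DCat.modules_enoughKInj _) _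
  obtain ⟨a⟩ := nonempty_tens_inD H (isInvertible_Px hP α)
  obtain ⟨b⟩ := nonempty_tens_tens H (isInvertible_Px hP α)
  let T := (tens (Px P α)).obj (DCoh.inD A.left H)
  have hperfT : DCoh.IsPerfect T := PCTriangle.perfect_iso a.symm (KZeroLib.isPerfect_inD_of_isCoh
    (fun x => CycLib28.isRegularLocalRing_stalk A.hom x) _
    (VarietyLib.isCoh_tensor' hH (PicLib.isCoh_of_isInvertible (isInvertible_Px hP α))))
  obtain ⟨e⟩ := S14125.result k A At φ hφ P hP hPξ g hg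
  let K : DCoh.D A.left := (DCoh.Lpull jv).obj T
  have hKq : DCoh.IsQCohD K := Dual22Lib.PerfLift.isQCohD_perfect (PullPerf.isPerfect_Lpull jv _ hperfT)
  obtain ⟨nσ⟩ := nonempty_LTensorMod_nat ((Scheme.Modules.pullback (pullbackSymmetry At.hom A.hom).hom).obj P)
  obtain ⟨tr⟩ := nonempty_transport (pullbackSymmetry At.hom A.hom).hom (pullback.fst A.hom At.hom)
    (pullback.snd A.hom At.hom) (pullback.snd At.hom A.hom) (pullback.fst At.hom A.hom)
    (pullbackSymmetry_hom_comp_fst _ _) (pullbackSymmetry_hom_comp_snd _ _) hP (DCoh.inD At.left N)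
  have hinv : jv ≫ jv = 𝟙 A.left := by
    have h : ((𝟙 A)⁻¹ : A ⟶ A) ≫ (𝟙 A)⁻¹ = 𝟙 A := by
      rw [GrpObj.comp_inv, Category.comp_id, _root_.inv_inv]
    exact congrArg CommaMorphism.left h
  haveI := DCat.hasLpull (jv ≫ jv)
  obtain ⟨cc⟩ := DCat.nonempty_LpullComp jv jv
  obtain ⟨u⟩ : Nonempty (DCoh.Lpull (jv ≫ jv) ≅ 𝟭 (DCoh.D A.left)) := by
    have h : ∀ (f : A.left ⟶ A.left) [DCoh.HasLpull f], f = 𝟙 _ → Nonempty (DCoh.Lpull f ≅ 𝟭 _) := by
      intro f _ hf; subst hf; exact nonempty_Lpull_id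
    exact h _ hinv
  let Ψ := DCoh.Lpull (pullback.fst At.hom A.hom) ⋙
    DCoh.LTensorMod ((Scheme.Modules.pullback (pullbackSymmetry At.hom A.hom).hom).obj P) ⋙
    DCoh.Rpush (pullback.snd At.hom A.hom)
  let eΨ : (DCoh.Rpush (pullback.fst A.hom At.hom)).obj ((tens P).obj
      ((DCoh.Lpull (pullback.snd A.hom At.hom)).obj (DCoh.inD At.left N))) ≅ T⟦-(g : ℤ)⟧ :=
    tr.symm ≪≫ ((DCoh.Rpush (pullback.snd At.hom A.hom)).mapIso (nσ.app _)).symm ≪≫ Ψ.mapIso eN.symm ≪≫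
      e.app ⟨K, hKq⟩ ≪≫ (shiftFunctor _ (-(g : ℤ))).mapIso ((cc ≪≫ u).app T)
  obtain ⟨Fc, hFc, ⟨eF⟩⟩ := PullPerf.exists_kflat_rep F
  haveI := LTensorSheaf.hasLTensorCx Fc
  have hFp : DCoh.IsPerfect (DCoh.toD A.left Fc) := PCTriangle.perfect_iso eF.symm hF
  let Nc := (HomologicalComplex.single At.left.Modules (ComplexShape.up ℤ) 0).obj N
  haveI : DCoh.HasLTensorCx Nc := LTensorSheaf.hasLTensorCx Nc
  have hNp : DCoh.IsPerfect (DCoh.toD At.left Nc) :=
    PCTriangle.perfect_iso (inDIso N) (KZeroLib.isPerfect_inD_finLocFree hN)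
  obtain ⟨ex⟩ := S16375.result k A.left At.left A.hom At.hom (sM P) Fc hFp Nc hNp
  obtain ⟨n⟩ := nonempty_LTensorMod_nat P
  have hΦ : DCoh.IsPerfect (Phi P F) := isPerfect_Phi hP hF
  obtain ⟨a', c', ha, hc, -, -⟩ := FMK16.exists_bounded_coh hΦ
  haveI := ha
  haveI := hc
  have hgt : topologicalKrullDim At.left ≤ (g : WithBot ℕ∞) :=
    ((AbDualLib.dim_dual_eq hφ).symm.trans hg).le
  have hvan := van_tens_of_supp g hgt (Phi P F) a' c' hdim hN ((i : ℤ) + g) (by omega)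
  let eR : (DCoh.LTensorCx Nc).obj ((FMK.phi A.hom At.hom (sM P)).obj (DCoh.toD A.left Fc)) ≅
      (DCoh.LTensorCx Nc).obj (Phi P F) :=
    (DCoh.LTensorCx Nc).mapIso ((DCoh.Rpush (pullback.snd A.hom At.hom)).mapIso
      ((n.app _).symm ≪≫ (DCoh.LTensorMod P).mapIso ((DCoh.Lpull (pullback.fst A.hom At.hom)).mapIso eF)))
  have hz : IsZero ((DerivedCategory.homologyFunctor AddCommGrpCat.{u} ((i : ℤ) + g)).obj ((DCoh.RΓ A.left).obj
      ((DCoh.LTensorCx Fc).obj (T⟦-(g : ℤ)⟧)))) := by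
    refine ((FMK16.isZero_homology_RΓ_iff _ _).2 hvan).of_iso
      ((DerivedCategory.homologyFunctor AddCommGrpCat.{u} ((i : ℤ) + g)).mapIso (?_ ≪≫ ex ≪≫
        (DCoh.RΓ At.left).mapIso eR))
    exact (DCoh.RΓ A.left).mapIso ((DCoh.LTensorCx Fc).mapIso (eΨ.symm ≪≫
      (DCoh.Rpush (pullback.fst A.hom At.hom)).mapIso ((tens P).mapIso
        ((DCoh.Lpull (pullback.snd A.hom At.hom)).mapIso (inDIso N)))))
  obtain ⟨nH⟩ := nonempty_LTensorMod_nat H
  obtain ⟨nP⟩ := nonempty_LTensorMod_nat (Px P α)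
  obtain ⟨sw⟩ := nonempty_swap2 Fc (sM (CohB1.tensorMod H (Px P α)))
  let eT : (DCoh.LTensorMod (Px P α)).obj ((DCoh.LTensorMod H).obj F) ≅ (DCoh.LTensorCx Fc).obj T :=
    nP.app _ ≪≫ (tens (Px P α)).mapIso (nH.app F) ≪≫ b.app F ≪≫
      (tens (CohB1.tensorMod H (Px P α))).mapIso eF.symm ≪≫ sw.symm ≪≫
      (DCoh.LTensorCx Fc).mapIso ((inDIso _).symm ≪≫ a.symm)
  obtain ⟨cs⟩ := nonempty_map_shift (Groth.Agent.Dual22Lib.TenLocal.triExact_LTensor Fc) T (-(g : ℤ))
  refine IsZero.of_iso ?_ ((DerivedCategory.homologyFunctor AddCommGrpCat.{u} (i : ℤ)).mapIso ((DCoh.RΓ A.left).mapIso eT))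
  rw [FMK16.isZero_homology_RΓ_iff] at hz ⊢
  have h2 := van_of_shift _ _ _ (hz.of_iso cs)
  rwa [show (i : ℤ) + g + -(g : ℤ) = i by omega] at h2

end Groth.Agent.GVPres16
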