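import Groth.Agent.GVPres16.TorDim1
import Groth.Agent.GVPres16.Main
import Groth.Agent.DCat.PerfTensor
import Groth.Agent.AmpleLib.Tensor
import Groth.Agent.EulerLib.SupportVanishing

/-!
# Hypercohomology of the derived tensor product of two ideal sheaves of curves
-/

set_option autoImplicit false
set_option backward.isDefEq.respectTransparency false
set_option backward.defeqAttrib.useBackward true
set_option linter.style.haveILetI false
set_option linter.unusedSectionVars false
set_option synthInstance.maxHeartbeats 100000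
set_option maxHeartbeats 800000

universe u

open CategoryTheory CategoryTheory.Limits CategoryTheory.Pretriangulated CategoryTheory.Abelian AlgebraicGeometry
open HomologicalComplex
open Groth.Agent Groth.Agent.ModStalk Groth.Agent.DCat Groth.Agent.Coherent Groth.Agent.BCFlat16

attribute [local instance] HasDerivedCategory.standard
attribute [-instance] Int.instConditionallyCompleteLinearOrder

namespace Groth.Agent.GVPres16

variable {Y : Scheme.{u}}

/-- Shifting and vanishing, backwards. -/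
theorem van_shift (T : DCoh.D Y) (n i : ℤ) (h : FMK16.Van T (i + n)) : FMK16.Van (T⟦n⟧) i := by
  have h1 := (DCat.Amplitude.from_shift_iff (Iso.refl T) (Coh.structureModule Y) (i + n)).2 h
  refine (DCat.Amplitude.from_shift_iff (Iso.refl (T⟦n⟧)) (Coh.structureModule Y) i).1 fun φ => ?_
  let e : (T⟦n⟧)⟦i⟧ ≅ T⟦i + n⟧ := ((shiftFunctorAdd' (DCoh.D Y) n i (i + n) (by omega)).app T).symm
  rw [← cancel_mono e.hom, zero_comp]
  exact h1 _

/-- The third term of a triangle. -/
theorem van_obj₃ {T : Triangle (DCoh.D Y)} (hT : T ∈ distTriang _) {i : ℤ} (h₂ : FMK16.Van T.obj₂ i)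
    (h₁ : FMK16.Van T.obj₁ (i + 1)) : FMK16.Van T.obj₃ i :=
  FMK16.Van.of_triangle (rot_of_distTriang _ hT) h₂ (van_shift _ _ _ h₁)

/-- Cohomology of a module from vanishing of maps from the structure module. -/
theorem subsingleton_HH_of_van (M : Y.Modules) (n : ℕ) (h : FMK16.Van (DCoh.inD Y M) (n : ℤ)) :
    Subsingleton (Coh.HH Y M n) := by
  have h1 := (DCat.Amplitude.from_shift_iff (Iso.refl (DCoh.inD Y M)) (Coh.structureModule Y) (n : ℤ)).2 h
  haveI : Subsingleton (Ext (Coh.structureModule Y) M n) := subsingleton_of_forall_eq 0 fun x => by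
    apply Ext.homEquiv.injective
    exact (h1 _).trans (Ext.zero_hom _ _ n).symm
  haveI : Subsingleton (Ext ((freeModOn Y).obj ⊤) M n) := subsingleton_of_forall_eq 0 fun x => by
    have e1 : (Ext.mk₀ (DQCoh.topStructIso Y).hom).comp ((Ext.mk₀ (DQCoh.topStructIso Y).inv).comp x (zero_add n))
        (zero_add n) = x := by simp
    rw [← e1, Subsingleton.elim ((Ext.mk₀ (DQCoh.topStructIso Y).inv).comp x (zero_add n)) 0, Ext.comp_zero]
  haveI : Subsingleton (HMod M ⊤ n) := (bijective_extToH ⊤ n M).2.subsingleton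
  exact (HHTopAdd M n).toEquiv.subsingleton

/-- Vanishing for a quotient. -/
theorem subsingleton_HH_X₃ {S : ShortComplex Y.Modules} (hS : S.ShortExact) (q : ℕ)
    (h₂ : Subsingleton (Coh.HH Y S.X₂ q)) (h₁ : Subsingleton (Coh.HH Y S.X₁ (q + 1))) :
    Subsingleton (Coh.HH Y S.X₃ q) := by
  rw [EulerLib.subsingleton_HH_iff] at *
  refine subsingleton_of_forall_eq 0 fun x => ?_
  obtain ⟨y, rfl⟩ := (exact_postA_deltaA (RingHom.id Γ(Y, ⊤)) hS ⊤ q x).1 (Subsingleton.elim _ _)
  rw [Subsingleton.elim y 0, map_zero]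

/-- A sheaf is the degree zero cohomology of the inclusion. -/
theorem nonempty_of_isGE_isLE (T : DCoh.D Y) [T.IsGE 0] [T.IsLE 0] :
    Nonempty (T ≅ DCoh.inD Y (DCoh.HD T 0)) := by
  obtain ⟨M, ⟨eM⟩⟩ := DerivedCategory.exists_iso_singleFunctor_obj_of_isGE_of_isLE T 0
  exact ⟨eM ≪≫ (DerivedCategory.singleFunctor Y.Modules 0).mapIso
    ((DerivedCategory.singleFunctorCompHomologyFunctorIso Y.Modules 0).app M).symm ≪≫
    (DerivedCategory.singleFunctor Y.Modules 0).mapIso
      ((DerivedCategory.homologyFunctor Y.Modules 0).mapIso eM.symm)⟩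

/-- The degree zero sheaf inherits vanishing when the lower ones have small support. -/
theorem van_HD_zero [IsNoetherian Y] (T : DCoh.D Y) (a : ℤ) [T.IsGE a] [T.IsLE 0] (Z : Set Y) (hZc : IsClosed Z)
    (hZd : topologicalKrullDim Z ≤ 1) (hsupp : ∀ q : ℤ, q < 0 → CohB1.support (DCoh.HD T q) ⊆ Z)
    (n : ℕ) (h : FMK16.Van T (n : ℤ)) : Subsingleton (Coh.HH Y (DCoh.HD T 0) n) := by
  let D := (DerivedCategory.TStructure.t.triangleLTGE (0 : ℤ)).obj T
  have hD : D ∈ distTriang _ := DerivedCategory.TStructure.t.triangleLTGE_distinguished 0 T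
  haveI : D.obj₁.IsLE (-1) := DerivedCategory.TStructure.t.isLE_truncLT_obj T 0 (-1) (by omega)
  haveI : D.obj₃.IsGE 0 := DerivedCategory.TStructure.t.isGE_truncGE_obj T 0 0 le_rfl
  haveI : D.obj₃.IsLE 0 := (DerivedCategory.isLE_iff _ 0).2 fun q hq =>
    DerivedCategory.HomologySequence.exact₃ D hD q (q + 1) rfl |>.isZero_of_both_zeros
      ((DerivedCategory.isZero_of_isLE T 0 q hq).eq_of_src _ _)
      ((DerivedCategory.isZero_of_isLE D.obj₁ (-1) (q + 1) (by omega)).eq_of_tgt _ _)
  obtain ⟨e₃⟩ := nonempty_of_isGE_isLE D.obj₃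
  obtain ⟨e₀⟩ := FMK16.nonempty_HD_truncGE T 0
  refine subsingleton_HH_of_van _ n (FMK16.Van.of_iso (e₃ ≪≫ (DerivedCategory.singleFunctor _ 0).mapIso e₀)
    (van_obj₃ hD h ?_))
  rcases lt_or_ge a 0 with ha | ha
  · refine FMK16.van_of_HD ((-a).toNat) D.obj₁ a _ ((DerivedCategory.isGE_iff _ a).2 fun q hq => ?_)
      ((DerivedCategory.isLE_iff _ _).2 fun q hq => DerivedCategory.isZero_of_isLE D.obj₁ (-1) q (by omega))
      fun q hq => ?_
    · obtain ⟨e⟩ := FMK16.nonempty_HD_truncLT T 0 q (by omega)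
      exact (DerivedCategory.isZero_of_isGE T a q hq).of_iso e
    · rcases lt_or_ge q 0 with hq0 | hq0
      · obtain ⟨e⟩ := FMK16.nonempty_HD_truncLT T 0 q hq0
        haveI : Subsingleton (Coh.HH Y (DCoh.HD T q) ((n : ℤ) + 1 - q).toNat) :=
          GVan16.subsingleton_HH_of_support _ 1 (fun y hy => le_trans
            (GVan16.dim_mono (hZc.closure_subset_iff.2 (Set.singleton_subset_iff.2 (hsupp q hq0 hy)))) hZd) _
            (by omega)
        exact FMK16.subsingleton_HH_of_iso e _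
      · exact FMK16.subsingleton_HH_of_isZero (DerivedCategory.isZero_of_isLE D.obj₁ (-1) q (by omega)) _
  · refine FMK16.Van.of_isZero (DQCoh.isZero_of_isZero_hd _ fun q => ?_) _
    rcases lt_or_ge q 0 with hq0 | hq0
    · obtain ⟨e⟩ := FMK16.nonempty_HD_truncLT T 0 q hq0
      exact (DerivedCategory.isZero_of_isGE T a q (by omega)).of_iso e
    · exact DerivedCategory.isZero_of_isLE D.obj₁ (-1) q (by omega)

/-- The closed subscheme of dimension at most one. -/
theorem dim_support_le (I : Y.IdealSheafData) (h : topologicalKrullDim I.subscheme ≤ 1) :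
    topologicalKrullDim (I.support : Set Y) ≤ 1 := by
  rw [← I.range_subschemeι, ← (IsHomeomorph.topologicalKrullDim_eq _
    I.subschemeι.isClosedEmbedding.isEmbedding.toHomeomorph.isHomeomorph)]
  exact h

/-- **From the derived tensor product of the ideals to the plain ones.** -/
theorem subsingleton_of_van [IsNoetherian Y] (hreg : ∀ y : Y, IsRegularLocalRing (Y.presheaf.stalk y))
    (I J : Y.IdealSheafData) (hJ : topologicalKrullDim J.subscheme ≤ 1) {M P : Y.Modules}
    (hM : PicF.IsInvertible M) (hP : PicF.IsInvertible P)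
    [DCoh.HasLTensorMod (ClSub.idealMod J)] [DCoh.HasLTensorMod M] [DCoh.HasLTensorMod P] [DCoh.HasRΓ Y] (n : ℕ)
    (h : IsZero ((DerivedCategory.homologyFunctor AddCommGrpCat.{u} (n : ℤ)).obj ((DCoh.RΓ Y).obj
      ((DCoh.LTensorMod P).obj ((DCoh.LTensorMod M).obj ((DCoh.LTensorMod (ClSub.idealMod J)).obj
        (DCoh.inD Y (ClSub.idealMod I)))))))) :
    Subsingleton (Coh.HH Y (CohB1.tensorMod (CohB1.tensorMod (CohB1.tensorMod (ClSub.idealMod I) (ClSub.idealMod J)) M) P) n) ∧
      (1 ≤ n → Subsingleton (Coh.HH Y (CohB1.tensorMod (CohB1.tensorMod (ClSub.idealMod (I * J)) M) P) n)) := by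
  let L := CohB1.tensorMod M P
  have hL : PicF.IsInvertible L := AmpleLib.isInvertible_tensorMod hM hP
  obtain ⟨nM⟩ := nonempty_LTensorMod_nat M
  obtain ⟨nP⟩ := nonempty_LTensorMod_nat P
  obtain ⟨t⟩ := nonempty_tens_tens M hP
  let K₀ := (DCoh.LTensorMod (ClSub.idealMod J)).obj (DCoh.inD Y (ClSub.idealMod I))
  let eK : (DCoh.LTensorMod P).obj ((DCoh.LTensorMod M).obj K₀) ≅ (tens L).obj K₀ :=
    nP.app _ ≪≫ (tens P).mapIso (nM.app K₀) ≪≫ t.app K₀
  have hvan : FMK16.Van ((tens L).obj K₀) (n : ℤ) :=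
    ((FMK16.isZero_homology_RΓ_iff _ _).1 h).of_iso eK
  obtain ⟨hle, ⟨e0⟩, hsupp⟩ := exists_tor J (ClSub.idealMod I)
  have hLf : FlatMod.IsFinLocFree L := Coherent.isFinLocFree_of_invertible hL
  have hT : ∀ q, Nonempty (DCoh.HD ((tens L).obj K₀) q ≅ (DCoh.tensorRightMod L).obj (DCoh.HD K₀ q)) :=
    fun q => FMK16.nonempty_HD_tens K₀ hLf q
  have hcoh : ∀ K : Y.IdealSheafData, Coh.IsCoh (ClSub.idealMod K) := fun K =>
    AmpleLib.isCoh_idealMod K fun U => by
      haveI : IsNoetherianRing Γ(Y, U.1) := IsLocallyNoetherian.component_noetherian U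
      exact IsNoetherian.noetherian _
  obtain ⟨J', hJ', ⟨eJ⟩⟩ := PullPerf.exists_kflat_rep (DerivedCategory.Q.obj (sM (ClSub.idealMod J)))
  haveI := LTensorSheaf.hasLTensorCx J'
  obtain ⟨cJ⟩ := TensorCongr.nonempty_congr (E := J') (E' := sM (ClSub.idealMod J)) eJ
  obtain ⟨nJ⟩ := nonempty_LTensorMod_nat (ClSub.idealMod J)
  have hK₀p : DCoh.IsPerfect K₀ :=
    PCTriangle.perfect_iso ((cJ.app _) ≪≫ (nJ.app _).symm)
      (PerfTensor.isPerfect_LTensor hJ' (PCTriangle.perfect_iso ((inDIso _) ≪≫ eJ.symm)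
        (KZeroLib.isPerfect_inD_of_isCoh hreg _ (hcoh J))) _ (KZeroLib.isPerfect_inD_of_isCoh hreg _ (hcoh I)))
  obtain ⟨a, ha⟩ := Dual22Lib.PushPerf.exists_isGE_perfect hK₀p
  haveI := ha
  haveI := hle
  haveI := preservesFiniteLimits_tensE hLf
  haveI : ((tens L).obj K₀).IsGE a := (DerivedCategory.isGE_iff _ a).2 fun q hq => by
    obtain ⟨e⟩ := hT q
    exact ((DCoh.tensorRightMod L).map_isZero (DerivedCategory.isZero_of_isGE K₀ a q hq)).of_iso e
  haveI : ((tens L).obj K₀).IsLE 0 := (DerivedCategory.isLE_iff _ 0).2 fun q hq => by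
    obtain ⟨e⟩ := hT q
    exact ((DCoh.tensorRightMod L).map_isZero (DerivedCategory.isZero_of_isLE K₀ 0 q hq)).of_iso e
  have hS : ∀ q : ℤ, q < 0 → CohB1.support (DCoh.HD ((tens L).obj K₀) q) ⊆ (J.support : Set Y) := fun q hq y hy => by
    by_contra hyJ
    obtain ⟨e⟩ := hT q
    refine hy (SuppOpen.subsingleton_of_isZero_stalkFunctor _ y ?_)
    refine IsZero.of_iso ?_ ((DerSch.stalkFunctor Y y).mapIso e ≪≫ (stalkTensorRightModIso L y).app _)
    exact (MonoidalCategory.tensorRight ((DerSch.stalkFunctor Y y).obj L)).map_isZero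
      (SuppOpen.isZero_stalkFunctor _ y (h := not_not.1 fun hh => hyJ (hsupp q (by omega) hh)))
  haveI : Subsingleton (Coh.HH Y (DCoh.HD ((tens L).obj K₀) 0) n) :=
    van_HD_zero _ a _ J.support.2 (dim_support_le J hJ) hS n hvan
  obtain ⟨e⟩ := hT 0
  let T := CohB1.tensorMod (ClSub.idealMod I) (ClSub.idealMod J)
  let eT : CohB1.tensorMod (CohB1.tensorMod T M) P ≅ DCoh.HD ((tens L).obj K₀) 0 :=
    TensorAssoc.assocIso T M P ≪≫ (Iso.refl ((DCoh.tensorRightMod L).obj T)) ≪≫
      (DCoh.tensorRightMod L).mapIso e0.symm ≪≫ e.symm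
  have h1 : Subsingleton (Coh.HH Y (CohB1.tensorMod (CohB1.tensorMod T M) P) n) :=
    FMK16.subsingleton_HH_of_iso eT _
  refine ⟨h1, fun hn => ?_⟩
  haveI := epi_mulI I J
  let G : Y.Modules ⥤ Y.Modules := DCoh.tensorRightMod L
  haveI : PreservesFiniteLimits G := preservesFiniteLimits_of_natIso (Coherent.CohBC.tensorRightBiIso L).symm
  haveI := preservesFiniteColimits_tensE hLf
  haveI : PreservesFiniteColimits G := preservesFiniteColimits_of_natIso (Coherent.CohBC.tensorRightBiIso L).symm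
  let S : ShortComplex Y.Modules := ShortComplex.mk (kernel.ι (mulI I J)) (mulI I J) (kernel.condition _)
  have hSe : S.ShortExact :=
    { exact := ShortComplex.exact_of_f_is_kernel _ (kernelIsKernel (mulI I J))
      mono_f := inferInstanceAs (Mono (kernel.ι (mulI I J)))
      epi_g := inferInstanceAs (Epi (mulI I J)) }
  have hker : Subsingleton (Coh.HH Y (G.obj (kernel (mulI I J))) (n + 1)) := by
    refine GVan16.subsingleton_HH_of_support _ 1 (fun y hy => le_trans (GVan16.dim_mono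
      (J.support.2.closure_subset_iff.2 (Set.singleton_subset_iff.2 ?_))) (dim_support_le J hJ)) _ (by omega)
    by_contra hyJ
    refine hy (SuppOpen.subsingleton_of_isZero_stalkFunctor _ y ?_)
    refine IsZero.of_iso ?_ ((stalkTensorRightModIso L y).app _)
    exact (MonoidalCategory.tensorRight ((DerSch.stalkFunctor Y y).obj L)).map_isZero
      (SuppOpen.isZero_stalkFunctor _ y (h := not_not.1 fun hh => hyJ (support_kernel_mulI I J hh)))
  have hmid : Subsingleton (Coh.HH Y (G.obj T) n) := by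
    exact FMK16.subsingleton_HH_of_iso
      ((Iso.refl (G.obj T)) ≪≫ (TensorAssoc.assocIso T M P).symm) _ (hN := h1)
  have hq : Subsingleton (Coh.HH Y (G.obj (ClSub.idealMod (I * J))) n) :=
    subsingleton_HH_X₃ (hSe.map_of_exact G) n hmid hker
  exact FMK16.subsingleton_HH_of_iso (TensorAssoc.assocIso _ M P) _ (hN := hq)

end Groth.Agent.GVPres16
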