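import Groth.Agent.DCat.TorSheaf
import Groth.Agent.AmpleLib.FTIdeal
import Groth.Agent.BlowUpCoh.Twists
import Groth.Agent.Coherent.CohBC.TwistBC
import Groth.Agent.Coherent.InternalHomAdj
import Groth.Agent.Coherent.CohBC.Perf
import Groth.Agent.Coherent.Existence.SysKernel
import Groth.Agent.DCat.SuppOpen
import Groth.Agent.FlatCx12.TorDimBCScheme

/-!
# Tensor products of ideal sheaves away from the closed subscheme
-/

set_option autoImplicit false
set_option backward.isDefEq.respectTransparency false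
set_option backward.defeqAttrib.useBackward true
set_option linter.style.haveILetI false
set_option linter.unusedSectionVars false
set_option synthInstance.maxHeartbeats 100000

universe u

open CategoryTheory CategoryTheory.Limits MonoidalCategory AlgebraicGeometry HomologicalComplex Opposite
open Groth.Agent Groth.Agent.ModStalk Groth.Agent.DCat Groth.Agent.AmpleLib

attribute [local instance] HasDerivedCategory.standard

namespace Groth.Agent.GVPres16

variable {X : Scheme.{u}}

/-- The inclusion of an ideal is bijective on stalks away from the closed subscheme. -/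
theorem isIso_stalk_idealModι (J : X.IdealSheafData) {x : X} (hx : x ∉ J.support) :
    IsIso ((DerSch.stalkFunctor X x).map (ClSub.idealModι J)) := by
  haveI := AmpleLib.mono_idealModι J
  rw [ConcreteCategory.isIso_iff_bijective]
  refine ⟨(ModuleCat.mono_iff_injective _).1 inferInstance, fun s => ?_⟩
  obtain ⟨k, hk⟩ := exists_idealModι_eq_one J
  obtain ⟨U, hxU, a, rfl⟩ := TopCat.Presheaf.exists_germ_eq (Coh.structureModule X).presheaf s
  let O : X.Opens := ⟨(J.support : Set X)ᶜ, J.support.2.isOpen_compl⟩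
  let W := U ⊓ O
  let r : Γ(X, W) := PicLib.res inf_le_left (show Γ(X, U) from a)
  refine ⟨(ClSub.idealMod J).presheaf.germ W x ⟨hxU, hx⟩ (r • Coherent.resM _ inf_le_right k), ?_⟩
  refine (TopCat.Presheaf.stalkFunctor_map_germ_apply (C := Ab) W x ⟨hxU, hx⟩
    (ClSub.idealModι J).mapPresheaf _).trans ?_
  have h1 : (ClSub.idealModι J).app W (r • Coherent.resM _ inf_le_right k) =
      (show Γ(Coh.structureModule X, W) from r) := by
    rw [Scheme.Modules.Hom.app_smul, Coherent.app_resM, hk]
    show r * PicLib.res inf_le_right (1 : Γ(X, O)) = r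
    rw [map_one, mul_one]
  refine (congrArg ((Coh.structureModule X).presheaf.germ W x ⟨hxU, hx⟩) h1).trans ?_
  exact TopCat.Presheaf.germ_res_apply (Coh.structureModule X).presheaf (homOfLE inf_le_left) x ⟨hxU, hx⟩ a

/-- `J ⊗ M ⟶ M` is bijective on stalks away from the closed subscheme. -/
theorem isIso_stalk_twistMul (J : X.IdealSheafData) (M : X.Modules) {x : X} (hx : x ∉ J.support) :
    IsIso ((DerSch.stalkFunctor X x).map (twistMul J M)) := by
  haveI := isIso_stalk_idealModι J hx
  haveI : IsIso ((DerSch.stalkFunctor X x).map (tensorMap (ClSub.idealModι J) (𝟙 M))) := by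
    have h := stalkTensorIso_natural (x := x) (ClSub.idealModι J) (𝟙 M)
    rw [CategoryTheory.Functor.map_id, Category.comp_id, CategoryTheory.Functor.map_id,
      Coherent.CohBC.tensorBi_map_eq_tensorMap] at h
    rw [(Iso.eq_comp_inv _).2 h]
    infer_instance
  rw [twistMul, Functor.map_comp]
  infer_instance

variable (I J : X.IdealSheafData)

/-- Multiplication of ideal sheaves, into the structure module. -/
noncomputable def mulO : CohB1.tensorMod (ClSub.idealMod I) (ClSub.idealMod J) ⟶ Coh.structureModule X :=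
  twistMul I (ClSub.idealMod J) ≫ ClSub.idealModι J

theorem mulO_tmul (W : X.Opens) (a : Γ(ClSub.idealMod I, W)) (b : Γ(ClSub.idealMod J, W)) :
    (mulO I J).app W (tmul a b) = (show Γ(X, W) from (ClSub.idealModι I).app W a) *
      (show Γ(X, W) from (ClSub.idealModι J).app W b) := by
  show (ClSub.idealModι J).app W ((twistMul I (ClSub.idealMod J)).app W (tmul a b)) = _
  rw [twistMul_tmul, Scheme.Modules.Hom.app_smul]
  rfl

theorem mulO_comp_zero : mulO I J ≫ ClSub.toSubscheme (I * J) = 0 := by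
  refine AmpleLib.hom_ext fun W a b => ?_
  show (ClSub.toSubscheme (I * J)).app W ((mulO I J).app W (tmul a b)) = 0
  rw [mulO_tmul]
  refine TopCat.Sheaf.eq_of_locally_eq' ⟨_, (ClSub.quotMod (I * J)).isSheaf⟩
    (fun V : {V : X.affineOpens // V.1 ≤ W} => V.1.1) W (fun V => homOfLE V.2) (fun y hy => ?_) _ 0 fun V => ?_
  · obtain ⟨V, hV, hyV, hVW⟩ := exists_isAffineOpen_mem_and_subset (x := y) (U := W) hy
    exact TopologicalSpace.Opens.mem_iSup.2 ⟨⟨⟨V, hV⟩, hVW⟩, hyV⟩
  · rw [map_zero]
    obtain ⟨⟨V, hV⟩, hVW⟩ := V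
    let f : Γ(X, W) := (show Γ(X, W) from (ClSub.idealModι I).app W a) *
      (show Γ(X, W) from (ClSub.idealModι J).app W b)
    refine (Coherent.app_resM (ClSub.toSubscheme (I * J)) hVW f).symm.trans ?_
    have hmem : PicLib.res hVW f ∈ (I * J).ideal ⟨V, hV⟩ := by
      rw [Scheme.IdealSheafData.ideal_mul, Pi.mul_apply, map_mul]
      refine Ideal.mul_mem_mul ?_ ?_
      · have h := BlowUpCoh.idealModι_mem I ⟨V, hV⟩ (Coherent.resM _ hVW a)
        rwa [Coherent.app_resM] at h
      · have h := BlowUpCoh.idealModι_mem J ⟨V, hV⟩ (Coherent.resM _ hVW b)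
        rwa [Coherent.app_resM] at h
    rw [← (I * J).ker_subschemeι_app ⟨V, hV⟩, RingHom.mem_ker] at hmem
    exact hmem

/-- Multiplication onto the product ideal. -/
noncomputable def mulI : CohB1.tensorMod (ClSub.idealMod I) (ClSub.idealMod J) ⟶ ClSub.idealMod (I * J) :=
  kernel.lift _ (mulO I J) (mulO_comp_zero I J)

theorem mulI_ι : mulI I J ≫ ClSub.idealModι (I * J) = mulO I J := kernel.lift_ι _ _ _

theorem epi_mulI : Epi (mulI I J) := by
  refine Coherent.Existence.epi_of_affine_surjective _ fun V hV c => ?_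
  haveI := AmpleLib.mono_idealModι (I * J)
  have hc := BlowUpCoh.idealModι_mem (I * J) ⟨V, hV⟩ c
  rw [Scheme.IdealSheafData.ideal_mul, Pi.mul_apply] at hc
  suffices h : ∀ f ∈ I.ideal ⟨V, hV⟩ * J.ideal ⟨V, hV⟩,
      ∃ z, (show Γ(X, V) from (mulO I J).app V z) = f by
    obtain ⟨z, hz⟩ := h _ hc
    refine ⟨z, BlowUpCoh.idealModι_injective (I * J) V ?_⟩
    refine Eq.trans ?_ hz
    exact ConcreteCategory.congr_hom (congrArg (fun φ => φ.app V) (mulI_ι I J)) z
  intro f hf
  refine Submodule.mul_induction_on hf (fun p hp q hq => ?_) (fun p q hp hq => ?_)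
  ·
    obtain ⟨a, ha⟩ := BlowUpCoh.exists_idealMod_section I ⟨V, hV⟩ hp
    obtain ⟨b, hb⟩ := BlowUpCoh.exists_idealMod_section J ⟨V, hV⟩ hq
    exact ⟨tmul a b, (mulO_tmul I J V a b).trans (congrArg₂ (· * ·) ha hb)⟩
  ·
    obtain ⟨a, ha⟩ := hp
    obtain ⟨b, hb⟩ := hq
    exact ⟨a + b, (map_add ((mulO I J).app V).hom a b).trans (congrArg₂ (· + ·) ha hb)⟩

/-- The kernel of multiplication lives on the second closed subscheme. -/
theorem support_kernel_mulI : CohB1.support (kernel (mulI I J)) ⊆ J.support := by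
  intro x hx
  by_contra hxJ
  refine hx (SuppOpen.subsingleton_of_isZero_stalkFunctor _ x ?_)
  haveI := AmpleLib.mono_idealModι (I * J)
  haveI := AmpleLib.mono_idealModι I
  haveI := isIso_stalk_twistMul J (ClSub.idealMod I) hxJ
  have hψ : mulO I J = (tensorComm (ClSub.idealMod I) (ClSub.idealMod J)).hom ≫ twistMul J (ClSub.idealMod I) ≫
      ClSub.idealModι I := by
    refine AmpleLib.hom_ext fun W a b => ?_
    rw [mulO_tmul]
    symm
    show (ClSub.idealModι I).app W ((twistMul J (ClSub.idealMod I)).app W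
      ((tensorSwap (ClSub.idealMod I) (ClSub.idealMod J)).app W (tmul a b))) = _
    rw [show (tensorSwap (ClSub.idealMod I) (ClSub.idealMod J)).app W (tmul a b) = tmul b a from
      Bilin.desc_tmul _ W a b, twistMul_tmul, Scheme.Modules.Hom.app_smul]
    exact mul_comm (show Γ(X, W) from (ClSub.idealModι J).app W b) (show Γ(X, W) from (ClSub.idealModι I).app W a)
  haveI : Mono ((DerSch.stalkFunctor X x).map (mulI I J)) := by
    haveI : Mono ((DerSch.stalkFunctor X x).map (mulI I J) ≫
        (DerSch.stalkFunctor X x).map (ClSub.idealModι (I * J))) := by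
      rw [← Functor.map_comp, mulI_ι, hψ, Functor.map_comp, Functor.map_comp]
      infer_instance
    exact mono_of_mono _ ((DerSch.stalkFunctor X x).map (ClSub.idealModι (I * J)))
  exact (isZero_kernel_of_mono ((DerSch.stalkFunctor X x).map (mulI I J))).of_iso
    (PreservesKernel.iso (DerSch.stalkFunctor X x) (mulI I J))

theorem isZero_HD_inD (M : X.Modules) (q : ℤ) (hq : q ≠ 0) : IsZero (DCoh.HD (DCoh.inD X M) q) :=
  (HomologicalComplex.exactAt_iff_isZero_homology _ _).1
      (HomologicalComplex.exactAt_single_obj (ComplexShape.up ℤ) 0 M q hq) |>.of_iso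
    ((DerivedCategory.homologyFunctor X.Modules q).mapIso ((DerivedCategory.singleFunctorIsoCompQ X.Modules 0).app M) ≪≫
      (DerivedCategory.homologyFunctorFactors X.Modules q).app _)

/-- The derived tensor product of a module with an ideal sheaf. -/
theorem exists_tor (M : X.Modules) [DCoh.HasLTensorMod (ClSub.idealMod J)] :
    ((DCoh.LTensorMod (ClSub.idealMod J)).obj (DCoh.inD X M)).IsLE 0 ∧
      Nonempty (DCoh.HD ((DCoh.LTensorMod (ClSub.idealMod J)).obj (DCoh.inD X M)) 0 ≅
        (DCoh.tensorRightMod (ClSub.idealMod J)).obj M) ∧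
      ∀ q : ℤ, q ≠ 0 → CohB1.support (DCoh.HD ((DCoh.LTensorMod (ClSub.idealMod J)).obj (DCoh.inD X M)) q) ⊆
        J.support := by
  let L := (HomologicalComplex.single X.Modules (ComplexShape.up ℤ) 0).obj M
  obtain ⟨P, c, hP, -, hc, hPb⟩ := exists_kflat_sheaf_le L 0
    fun n hn => HomologicalComplex.isZero_single_obj_X _ _ _ _ (by omega)
  haveI := hc
  let e : DCoh.toD X P ≅ DCoh.inD X M := asIso (DerivedCategory.Q.map c) ≪≫
    ((DerivedCategory.singleFunctorIsoCompQ X.Modules 0).app M).symm
  let R := DCoh.tensorRightMod (ClSub.idealMod J)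
  let RP := (R.mapHomologicalComplex (ComplexShape.up ℤ)).obj P
  let eK : (DCoh.LTensorMod (ClSub.idealMod J)).obj (DCoh.inD X M) ≅ DCoh.toD X RP :=
    (DCoh.LTensorMod (ClSub.idealMod J)).mapIso e.symm ≪≫ ltensorModIso _ hP
  have hH : ∀ q, Nonempty (DCoh.HD ((DCoh.LTensorMod (ClSub.idealMod J)).obj (DCoh.inD X M)) q ≅ RP.homology q) :=
    fun q => ⟨(DerivedCategory.homologyFunctor X.Modules q).mapIso eK ≪≫
      (DerivedCategory.homologyFunctorFactors X.Modules q).app RP⟩
  refine ⟨(DerivedCategory.isLE_iff _ 0).2 fun q hq => ?_, ?_, fun q hq => ?_⟩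
  · obtain ⟨h⟩ := hH q
    exact (ShortComplex.isZero_homology_of_isZero_X₂ _ (R.map_isZero (hPb q hq))).of_iso h
  · haveI : DCoh.HasSheafHom (ClSub.idealMod J) := Coherent.hasSheafHom _
    haveI : PreservesColimitsOfSize.{0, 0} ((DCoh.tensorBi (X := X)).obj (ClSub.idealMod J)) :=
      (DCoh.sheafHomAdj (ClSub.idealMod J)).leftAdjoint_preservesColimits
    haveI : PreservesColimitsOfSize.{0, 0} R :=
      preservesColimits_of_natIso (Coherent.CohBC.tensorRightBiIso (ClSub.idealMod J)).symm
    obtain ⟨h⟩ := hH 0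
    have key : ∀ (S : ShortComplex X.Modules), S.g = 0 → Nonempty (S.homology ≅ cokernel S.f) := fun S hg =>
      ⟨(ShortComplex.HomologyData.ofIsColimitCokernelCofork S hg _ (cokernelIsCokernel S.f)).left.homologyIso⟩
    have hg : (P.sc 0).g = 0 := (hPb _ (by simp)).eq_of_tgt _ _
    obtain ⟨a⟩ := key (P.sc 0) hg
    obtain ⟨b⟩ := key ((P.sc 0).map R) (by show R.map (P.sc 0).g = 0; rw [hg, Functor.map_zero])
    exact ⟨h ≪≫ b ≪≫ (PreservesCokernel.iso R (P.sc 0).f).symm ≪≫ R.mapIso (a.symm ≪≫
      ((DerivedCategory.homologyFunctorFactors X.Modules 0).app P).symm ≪≫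
      (DerivedCategory.homologyFunctor X.Modules 0).mapIso e ≪≫
      (DerivedCategory.singleFunctorCompHomologyFunctorIso X.Modules 0).app M)⟩
  · intro x hx
    by_contra hxJ
    obtain ⟨h⟩ := hH q
    refine hx (SuppOpen.subsingleton_of_isZero_stalkFunctor _ x ?_)
    refine IsZero.of_iso ?_ ((DerSch.stalkFunctor X x).mapIso h)
    haveI := isIso_stalk_idealModι J hxJ
    have hP0 : P.ExactAt q := (isZero_HD_toD_iff P q).1
      ((isZero_HD_inD M q hq).of_iso ((DerivedCategory.homologyFunctor X.Modules q).mapIso e))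
    let u₀ : (DerSch.stalkFunctor X x).obj (ClSub.idealMod J) ≅ 𝟙_ (ModuleCat.{u} (X.presheaf.stalk x)) :=
      asIso ((DerSch.stalkFunctor X x).map (ClSub.idealModι J)) ≪≫
        (EGA43.FibDepth.unitStalkEquiv x).toModuleIso.symm
    let ε : tensorRight ((DerSch.stalkFunctor X x).obj (ClSub.idealMod J)) ≅ 𝟭 _ :=
      NatIso.ofComponents (fun N => whiskerLeftIso N u₀ ≪≫ ρ_ N)
        (fun g => by simp [← MonoidalCategory.whisker_exchange_assoc])
    have hEx : ((stalkK x).obj RP).ExactAt q := by
      refine HomologicalComplex.ExactAt.of_iso ?_ (stalkTensorModCxIso (ClSub.idealMod J) x P).symm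
      exact (show ((stalkK x).obj P).ExactAt q from hP0.map (DerSch.stalkFunctor X x)).of_iso (Hom.isoOfComponents (fun n => (ε.app _).symm)
        (fun i j _ => (ε.inv.naturality _).symm))
    exact IsZero.of_iso ((HomologicalComplex.exactAt_iff_isZero_homology _ _).1 hEx)
      ((RP.sc q).mapHomologyIso (DerSch.stalkFunctor X x)).symm

end Groth.Agent.GVPres16
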