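import Groth.Agent.BCFlat16.FMClass

/-!
# The Poincaré twists at points
-/

set_option autoImplicit false
set_option linter.style.haveILetI false
set_option linter.unusedSectionVars false

universe u

open CategoryTheory CategoryTheory.Limits MonoidalCategory CartesianMonoidalCategory MonObj GrpObj AlgebraicGeometry
open Groth.Agent.PicLib Groth.Agent.AbDualLib

namespace Groth.Agent.GVPres16

variable {k : Type u} [Field k] {A At : Over (Spec (CommRingCat.of k))}
  [GrpObj A] [IsProper A.hom] [Smooth A.hom] [GeometricallyConnected A.hom]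
  [GrpObj At] [IsProper At.hom] [Smooth At.hom] [GeometricallyConnected At.hom]
  {φ : ∀ T : Over (Spec (CommRingCat.of k)), PicF.Cl (PicF.XT A.hom T) → (T ⟶ At)}
  (hφ : AbDual.IsDualAV Scheme.fppfPrecoverage A At φ) {P : (pullback A.hom At.hom).Modules}
  (hP : PicF.IsInvertible P) (hPξ : AbDual.IsPoincareCl A At φ (PicF.cl P))

/-- The restriction of the kernel to `A × {x}`. -/
noncomputable abbrev Px (P : (pullback A.hom At.hom).Modules) (x : 𝟙_ (Over (Spec (CommRingCat.of k))) ⟶ At) :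
    A.left.Modules :=
  (Scheme.Modules.pullback (CartesianMonoidalCategory.lift (𝟙 A) (toUnit A ≫ x)).left).obj P

include hP in
theorem isInvertible_Px (x : 𝟙_ (Over (Spec (CommRingCat.of k))) ⟶ At) : PicF.IsInvertible (Px P x) :=
  PicLoc.isInvertible_pullback _ hP

theorem of_Px (x : 𝟙_ (Over (Spec (CommRingCat.of k))) ⟶ At) :
    PicM.of (isInvertible_Px hP x) = ev (A := A) (B := At) (PicM.of hP) (𝟙 A) (toUnit A ≫ x) :=
  (PicM.pull_of _ hP).symm

include hφ hPξ in
/-- `P_α ⊗ (-1)^* P_x = P_{α - x}`. -/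
theorem of_Px_mul_inv (α x : 𝟙_ (Over (Spec (CommRingCat.of k))) ⟶ At) :
    PicM.of (isInvertible_Px hP α) * PicM.pull ((𝟙 A)⁻¹).left (PicM.of (isInvertible_Px hP x)) =
      PicM.of (isInvertible_Px hP (α * x⁻¹)) := by
  obtain ⟨Pc, hPc, h0, hid, hrig⟩ := exists_poincare hPξ
  obtain rfl : Pc = PicM.of hP := PicM.ext hPc.symm
  have hR := fun (y : A ⟶ A) (g h : A ⟶ At) => BCFlat16.FMClass.ev_mul_right hφ h0 hid hrig y g h
  have hL := fun (f g : A ⟶ A) (t : A ⟶ At) => BCFlat16.FMClass.ev_mul_left hφ h0 hid hrig f g t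
  have hcancel : ∀ a : PicM A.left, a = a * a → a = 1 := fun a h => by
    obtain ⟨b, hb⟩ := PicM.exists_mul_eq_one a
    have h' := congrArg (· * b) h
    simp only [_root_.mul_assoc, hb, _root_.mul_one] at h'
    exact h'.symm
  have h1L : ∀ t, ev (A := A) (B := At) (PicM.of hP) (1 : A ⟶ A) t = 1 := fun t => hcancel _ (by
    have h := hL 1 1 t; rwa [_root_.mul_one] at h)
  have h1R : ev (A := A) (B := At) (PicM.of hP) (𝟙 A) (1 : A ⟶ At) = 1 := hcancel _ (by
    have h := hR (𝟙 A) 1 1; rwa [_root_.mul_one] at h)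
  rw [of_Px hP, of_Px hP, of_Px hP, pull_ev, Category.comp_id, comp_toUnit_assoc, MonObj.comp_mul, hR,
    GrpObj.comp_inv]
  congr 1
  generalize toUnit A ≫ x = t
  obtain ⟨b, hb⟩ := PicM.exists_mul_eq_one (ev (A := A) (B := At) (PicM.of hP) (𝟙 A) t)
  have e1 : ev (A := A) (B := At) (PicM.of hP) (𝟙 A)⁻¹ t * ev (PicM.of hP) (𝟙 A) t = 1 := by
    rw [← hL, inv_mul_cancel, h1L]
  have e2 : ev (A := A) (B := At) (PicM.of hP) (𝟙 A) t⁻¹ * ev (PicM.of hP) (𝟙 A) t = 1 := by
    rw [← hR, inv_mul_cancel, h1R]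
  calc _ = ev (A := A) (B := At) (PicM.of hP) (𝟙 A)⁻¹ t * (ev (PicM.of hP) (𝟙 A) t * b) := by
        rw [hb, _root_.mul_one]
    _ = b := by rw [← _root_.mul_assoc, e1, _root_.one_mul]
    _ = ev (A := A) (B := At) (PicM.of hP) (𝟙 A) t⁻¹ * (ev (PicM.of hP) (𝟙 A) t * b) := by
        rw [← _root_.mul_assoc, e2, _root_.one_mul]
    _ = _ := by rw [hb, _root_.mul_one]

end Groth.Agent.GVPres16
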