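import Groth.Agent.S14147
import Groth.Agent.GVPres16.Twist
import Groth.Agent.GVPres16.Exchange
import Groth.Agent.FMK16.FibreHyper
import Groth.Agent.FMK16.Swap
import Groth.Agent.FMK16.PhiPerf
import Groth.Agent.DQCoh.RpushDegree17
import Groth.Agent.KZeroLib.RegularPerfect

/-!
# Fibres of the transform at rational points
-/

set_option autoImplicit false
set_option backward.isDefEq.respectTransparency false
set_option backward.defeqAttrib.useBackward true
set_option linter.style.haveILetI false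
set_option linter.unusedSectionVars false
set_option synthInstance.maxHeartbeats 100000
set_option maxHeartbeats 800000

universe u

open CategoryTheory CategoryTheory.Limits MonoidalCategory CartesianMonoidalCategory MonObj GrpObj AlgebraicGeometry
open Groth.Agent Groth.Agent.DCat

attribute [local instance] HasDerivedCategory.standard
attribute [-instance] Int.instConditionallyCompleteLinearOrder

namespace Groth.Agent.GVPres16

/-- Hypercohomology against the fibre dimension of a perfect object at a rational point. -/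
theorem isZero_RΓ_iff_betti {k : Type u} [Field k] {X Y : Scheme.{u}} (a : X ⟶ Spec (CommRingCat.of k)) [Flat a]
    [DCoh.HasRpush a] [DCoh.HasRΓ X] (e : Spec (CommRingCat.of k) ⟶ Y) [DCoh.HasLpull e]
    [∀ y : Y, DCoh.HasLpull (Y.fromSpecResidueField y)]
    (T : DCoh.D X) (E : DCoh.D Y) (hE : DCoh.IsPerfect E)
    (i : (DCoh.Rpush a).obj T ≅ (DCoh.Lpull e).obj E) (z : Spec (CommRingCat.of k)) (j : ℤ) :
    IsZero ((DerivedCategory.homologyFunctor AddCommGrpCat.{u} j).obj ((DCoh.RΓ X).obj T)) ↔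
      PerfD.betti E (e z) j = 0 := by
  haveI : DCoh.HasRΓ (Spec (CommRingCat.of k)) :=
    DCat.hasRightDerivedFunctor_of_enoughKInj (DCat.modules_enoughKInj _) _
  obtain ⟨g⟩ := FMK16.nonempty_RGamma_Rpush a T
  rw [← ((DerivedCategory.homologyFunctor AddCommGrpCat.{u} j).mapIso g).isZero_iff,
    ((DerivedCategory.homologyFunctor AddCommGrpCat.{u} j).mapIso ((DCoh.RΓ _).mapIso i)).isZero_iff,
    FMK16.isZero_homology_RΓ_iff,
    FMK16.van_iff_finrank (CommRingCat.of k) (Field.toIsField k) _ (DCat.PullPerf.isPerfect_Lpull e E hE) j,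
    ← DQCoh.fdim_eq_betti E hE (CommRingCat.of k) (Field.toIsField k) e z j]
  rfl

/-- The transform. -/
noncomputable abbrev Phi {k : Type u} [Field k] {A At : Over (Spec (CommRingCat.of k))}
    (P : (pullback A.hom At.hom).Modules) [DCoh.HasLpull (pullback.fst A.hom At.hom)]
    [DCoh.HasLTensorMod P] [DCoh.HasRpush (pullback.snd A.hom At.hom)] (F : DCoh.D A.left) : DCoh.D At.left :=
  (DCoh.Lpull (pullback.fst A.hom At.hom) ⋙ DCoh.LTensorMod P ⋙ DCoh.Rpush (pullback.snd A.hom At.hom)).obj F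

variable {k : Type u} [Field k] {A At : Over (Spec (CommRingCat.of k))}
  [GrpObj A] [IsProper A.hom] [Smooth A.hom] [GeometricallyConnected A.hom]
  [GrpObj At] [IsProper At.hom] [Smooth At.hom] [GeometricallyConnected At.hom]
  {φ : ∀ T : Over (Spec (CommRingCat.of k)), PicF.Cl (PicF.XT A.hom T) → (T ⟶ At)}
  (hφ : AbDual.IsDualAV Scheme.fppfPrecoverage A At φ) {P : (pullback A.hom At.hom).Modules}
  (hP : PicF.IsInvertible P) (hPξ : AbDual.IsPoincareCl A At φ (PicF.cl P))
  [DCoh.HasLpull (pullback.fst A.hom At.hom)] [DCoh.HasLTensorMod P] [DCoh.HasRpush (pullback.snd A.hom At.hom)]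

include hP in
theorem isPerfect_Phi {F : DCoh.D A.left} (hF : DCoh.IsPerfect F) : DCoh.IsPerfect (Phi P F) := by
  obtain ⟨n⟩ := BCFlat16.nonempty_LTensorMod_nat P
  haveI : Flat A.hom := CubeLib.flat_of_field _
  have hP' : DCoh.IsPerfect (DCoh.toD (pullback A.hom At.hom) (BCFlat16.sM P)) :=
    PCTriangle.perfect_iso (BCFlat16.inDIso P)
      (KZeroLib.isPerfect_inD_finLocFree (Coherent.isFinLocFree_of_invertible hP))
  obtain ⟨-, h⟩ := FMK16.isPerfect_phi k A.hom At.hom (BCFlat16.sM P) hP' F hF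
  exact PCTriangle.perfect_iso ((DCoh.Rpush _).mapIso (n.app _)).symm h

include hφ hP hPξ in
/-- The fibre of the transform at a rational point. -/
theorem isZero_twist_iff_betti (x : 𝟙_ (Over (Spec (CommRingCat.of k))) ⟶ At) [DCoh.HasRΓ A.left]
    [∀ y : At.left, DCoh.HasLpull (At.left.fromSpecResidueField y)]
    {F : DCoh.D A.left} (hq : DCoh.IsQCohD F) (hF : DCoh.IsPerfect (Phi P F)) (z : Spec (CommRingCat.of k)) (j : ℤ) :
    IsZero ((DerivedCategory.homologyFunctor AddCommGrpCat.{u} j).obj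
      ((DCoh.RΓ A.left).obj ((BCFlat16.tens (Px P x)).obj F))) ↔ PerfD.betti (Phi P F) (x.left z) j = 0 := by
  haveI : DCoh.HasLTensorMod (Px P x) := DCat.hasLTensorMod _
  haveI := DCat.hasRpush A.hom
  haveI := DCat.hasLpull x.left
  haveI : Flat A.hom := CubeLib.flat_of_field _
  obtain ⟨e⟩ := S14147.result k A At φ hφ P hP hPξ x
  obtain ⟨n⟩ := BCFlat16.nonempty_LTensorMod_nat (Px P x)
  exact isZero_RΓ_iff_betti A.hom x.left _ _ hF
    ((DCoh.Rpush A.hom).mapIso (n.app F).symm ≪≫ e.app ⟨F, hq⟩) z j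

omit [DCoh.HasLpull (pullback.fst A.hom At.hom)] [DCoh.HasRpush (pullback.snd A.hom At.hom)] in
/-- Closed points are rational. -/
theorem exists_point [IsAlgClosed k] {y : At.left} (hy : IsClosed ({y} : Set At.left)) :
    ∃ x : 𝟙_ (Over (Spec (CommRingCat.of k))) ⟶ At, ∀ z : Spec (CommRingCat.of k), x.left z = y :=
  ⟨Over.homMk (pointOfClosedPoint At.hom y hy) (by simp), fun z => pointOfClosedPoint_apply _ _ _ z⟩

/-- A perfect object with fibres in degree zero only is a vector bundle. -/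
theorem exists_inD_of_betti {Y : Scheme.{u}} [∀ y : Y, DCoh.HasLpull (Y.fromSpecResidueField y)] (E : DCoh.D Y)
    (hE : DCoh.IsPerfect E) (h : ∀ (y : Y) (p : ℤ), p ≠ 0 → PerfD.betti E y p = 0) :
    ∃ N : Y.Modules, FlatMod.IsFinLocFree N ∧ Nonempty (E ≅ DCoh.inD Y N) := by
  let U : ℕ → Y.Opens := fun r => ⟨DQCoh.bundleLocus E 0 r, DQCoh.isOpen_bundleLocus E hE 0 r⟩
  choose H hH hiso using fun r => DQCoh.exists_bundle E hE 0 r (U r) le_rfl
  have hmem : ∀ y : Y, y ∈ U (PerfD.betti E y 0) := fun y => ⟨h y, rfl⟩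
  have hzero : ∀ p : ℤ, p ≠ 0 → IsZero (DCoh.HD E p) := fun p hp => ModStalk.isZero_of_stalks fun y => by
    obtain ⟨eu⟩ := hiso (PerfD.betti E y 0)
    have hz : IsZero ((Scheme.Modules.restrictFunctor (U (PerfD.betti E y 0)).ι).obj (DCoh.HD E p)) :=
      ((DQCoh.nonempty_HD_inD_shift (H _) 0).2 p hp).of_iso
        ((SuppOpen.hdMapIso (Scheme.Modules.restrictFunctor (U _).ι) E p).symm ≪≫
          (DerivedCategory.homologyFunctor _ p).mapIso eu)
    exact SuppOpen.isZero_stalkFunctor _ y (h :=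
      SuppOpen.subsingleton_stalk_of_restrict (U (PerfD.betti E y 0)).ι (DCoh.HD E p) ⟨y, hmem y⟩
        (SuppOpen.subsingleton_of_isZero_stalkFunctor _ _ ((DerSch.stalkFunctor _ _).map_isZero hz)))
  obtain ⟨e⟩ := DQCoh.RpushDegree17.nonempty_iso_shift E 0 hzero
  refine ⟨DCoh.HD E 0, DQCoh.isFinLocFree_of_local _ fun y => ?_,
    ⟨e ≪≫ (shiftFunctorZero' (DCoh.D Y) (-0 : ℤ) neg_zero).app _⟩⟩
  obtain ⟨eu⟩ := hiso (PerfD.betti E y 0)
  obtain ⟨⟨e0⟩, -⟩ := DQCoh.nonempty_HD_inD_shift (H (PerfD.betti E y 0)) 0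
  refine ⟨_, (U (PerfD.betti E y 0)).ι, inferInstance, by simpa using hmem y,
    PerfTensor.isFinLocFree_of_iso ?_ (fun u => let ⟨V, h1, h2⟩ := hH _ u; ⟨V, _, h1, h2⟩)⟩
  exact e0.symm ≪≫ (DerivedCategory.homologyFunctor _ 0).mapIso eu.symm ≪≫
    SuppOpen.hdMapIso (Scheme.Modules.restrictFunctor (U (PerfD.betti E y 0)).ι) E 0

end Groth.Agent.GVPres16
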